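import Groth.Agent.Lib.PBC24.Final
import Groth.Agent.Lib.PBC24.ProjLine

/-! Proper base change for torsion sheaves. -/

universe u

namespace Groth.Agent.BigPBC5

/-- Proper base change. -/
theorem properBC : PBC24.ProperBC.{u} :=
  PBC24.properBC_of_projLine fun A _ _ _ => PBC24.clCompN_projLine A

end Groth.Agent.BigPBC5
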