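import Groth.Agent.Lib.TorsAcyc5.Basic
import Groth.Agent.Lib.PBC24.Reductions
import Groth.Agent.Lib.EtFpqc16.Descent
import Groth.Agent.Lib.BigSite16.Res
import Groth.Agent.S0157
import Groth.Agent.S6686

/-!
# Higher direct images of torsion sheaves along proper morphisms on the big étale sites
-/

set_option autoImplicit false
set_option linter.style.haveILetI false
set_option linter.unusedSectionVars false
set_option backward.isDefEq.respectTransparency false
set_option backward.isDefEq.respectTransparency.types false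

universe u

open CategoryTheory CategoryTheory.Limits AlgebraicGeometry Opposite

noncomputable section

namespace Groth.Agent.BigPBC5

/-- Restriction along a morphism of the pullback to the big étale site. -/
theorem nonempty_resEtAlong_pi {T S : Scheme.{u}} (f : T ⟶ S) (F : EtCoh.Ab S) :
    Nonempty ((BigSite.resEtAlong Scheme.etalePrecoverage f).obj
      ((BigSite.piEtPull Scheme.etalePrecoverage S).obj F) ≅ (EtCoh.pull f).obj F) := by
  let e1 : BigSite.pushBig Scheme.etalePrecoverage f AddCommGrpCat.{u + 1} ⋙ BigSite.resEt Scheme.etalePrecoverage S ≅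
      BigSite.resEt Scheme.etalePrecoverage T ⋙ EtCoh.push f :=
    SmallBigBC16.e1 AddCommGrpCat.{u + 1} f
  let e2 := Adjunction.leftAdjointUniq
    ((BigSite.piEtAdj Scheme.etalePrecoverage S).comp (BigSite.bigAdj Scheme.etalePrecoverage f AddCommGrpCat.{u + 1}))
    (((EtCoh.pullPushAdj f).comp (BigSite.piEtAdj Scheme.etalePrecoverage T)).ofNatIsoRight e1.symm)
  haveI := (Groth.Agent.S6184.result T).2 ((EtCoh.pull f).obj F)
  exact ⟨(BigSite.resEt Scheme.etalePrecoverage T).mapIso (e2.app F) ≪≫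
    (asIso ((BigSite.piEtAdj Scheme.etalePrecoverage T).unit.app ((EtCoh.pull f).obj F))).symm⟩

theorem isTorsion_of_epi {X : Scheme.{u}} {F G : EtCoh.Ab X} (φ : F ⟶ G) [Epi φ] (hF : EtCoh.IsTorsion F) :
    EtCoh.IsTorsion G := by
  haveI : Sheaf.IsLocallySurjective φ := (Sheaf.isLocallySurjective_iff_epi' _ _).2 inferInstance
  intro U s x
  have h1 : Presheaf.imageSieve φ.hom s ∈ X.smallEtaleTopology U := Presheaf.imageSieve_mem _ _ s
  obtain ⟨V, g, v, ⟨t, ht⟩, rfl⟩ := (EtSite.mem_et_iff _ _).1 h1 x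
  obtain ⟨W, h, ⟨w, rfl⟩, hfin⟩ := hF V t v
  refine ⟨W, h ≫ g, ⟨w, (Scheme.Hom.comp_apply _ _ _)⟩, ?_⟩
  rw [op_comp, Functor.map_comp, ConcreteCategory.comp_apply, ← ht, ← NatTrans.naturality_apply]
  exact AddMonoidHom.isOfFinAddOrder _ hfin

section Big

variable (hBC : PBC24.ProperBC.{u}) {T S : Scheme.{u}} (f : T ⟶ S) [IsProper f]

instance preservesFiniteLimits_pushBig :
    PreservesFiniteLimits (BigSite.pushBig Scheme.etalePrecoverage f AddCommGrpCat.{u + 1}) :=
  haveI := (BigSite.bigAdj Scheme.etalePrecoverage f AddCommGrpCat.{u + 1}).isRightAdjoint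
  inferInstance

include hBC in
theorem isZero_RpushBig_pi (F : EtCoh.Ab T) (hF : EtCoh.IsTorsion F) (q : ℕ)
    (h : IsZero ((EtCoh.Rpush f q).obj F)) :
    IsZero ((BigSite.RpushBig Scheme.etalePrecoverage f q).obj
      ((BigSite.piEtPull Scheme.etalePrecoverage T).obj F)) := by
  let Q := (BigSite.RpushBig Scheme.etalePrecoverage f q).obj ((BigSite.piEtPull Scheme.etalePrecoverage T).obj F)
  show IsZero Q
  rw [IsZero.iff_id_eq_zero]
  apply ObjectProperty.hom_ext
  apply NatTrans.ext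
  funext U
  obtain ⟨⟨V, ⟨⟨⟩⟩, g⟩⟩ := U
  obtain ⟨i⟩ := Groth.Agent.S6686.result f g _ _ (IsPullback.of_hasPullback f g)
    ((BigSite.piEtPull Scheme.etalePrecoverage T).obj F) q
  obtain ⟨i'⟩ := nonempty_resEtAlong_pi (pullback.fst f g) F
  obtain ⟨j⟩ := (PBC24.nonempty_iso_and_baseChange0 hBC f g (pullback.snd f g) (pullback.fst f g)
    (IsPullback.of_hasPullback f g) F hF).1 q
  have hz := ((((EtCoh.pull g).map_isZero h).of_iso j.symm).of_iso
    ((EtCoh.Rpush (pullback.snd f g) q).mapIso i')).of_iso i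
  let U₀ : V.Etale := MorphismProperty.Over.mk ⊤ (𝟙 V) (inferInstanceAs (Etale (𝟙 V)))
  have hz' := ((sheafToPresheaf _ AddCommGrpCat.{u + 1}) ⋙ (evaluation _ _).obj (op U₀)).map_isZero hz
  exact (hz'.of_iso (Q.obj.mapIso (Over.isoMk (Iso.refl _) (Category.id_comp g).symm :
    Over.mk g ≅ (Over.map g).obj ((EtFppf.a V).obj U₀)).symm.op)).eq_of_src _ _

include hBC in
theorem nonempty_piEtPull_Rpush : ∀ (q : ℕ) (F : EtCoh.Ab T), EtCoh.IsTorsion F →
    Nonempty ((BigSite.piEtPull Scheme.etalePrecoverage S).obj ((EtCoh.Rpush f q).obj F) ≅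
      (BigSite.RpushBig Scheme.etalePrecoverage f q).obj ((BigSite.piEtPull Scheme.etalePrecoverage T).obj F)) := by
  haveI : ∀ Z : Scheme.{u}, IsIso (SmallBigBC16.piAdj AddCommGrpCat.{u + 1} Z).unit := EtFpqc16.isIso_unit
  obtain ⟨e⟩ := SmallBigBC16.nonempty_iso AddCommGrpCat.{u + 1} f fun V g G =>
    Groth.Agent.S0157.result f _ _ g (IsPullback.of_hasPullback f g) G
  haveI : PreservesFiniteLimits (EtCoh.push f) :=
    haveI := (EtCoh.pullPushAdj f).isRightAdjoint
    inferInstance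
  let π := BigSite.piEtPull Scheme.etalePrecoverage T
  let π' := BigSite.piEtPull Scheme.etalePrecoverage S
  haveI : π.Additive := (BigSite.piEtAdj Scheme.etalePrecoverage T).left_adjoint_additive
  haveI : π'.Additive := (BigSite.piEtAdj Scheme.etalePrecoverage S).left_adjoint_additive
  haveI : PreservesFiniteColimits π :=
    haveI := (BigSite.piEtAdj Scheme.etalePrecoverage T).isLeftAdjoint
    inferInstance
  haveI : PreservesFiniteColimits π' :=
    haveI := (BigSite.piEtAdj Scheme.etalePrecoverage S).isLeftAdjoint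
    inferInstance
  intro q
  induction q with
  | zero =>
    exact fun F _ => ⟨π'.mapIso ((EtCoh.push f).rightDerivedZeroIsoSelf.app F) ≪≫
      e.app F ≪≫ ((BigSite.pushBig Scheme.etalePrecoverage f AddCommGrpCat.{u + 1}).rightDerivedZeroIsoSelf.app
        (π.obj F)).symm⟩
  | succ n ih =>
    intro F hF
    obtain ⟨I, ι, hι, hI, hI0⟩ := TorsAcyc5.exists_torsion_acyclic f F hF
    let Sq : ShortComplex (EtCoh.Ab T) := ShortComplex.mk ι (cokernel.π ι) (cokernel.condition ι)
    have hSq : Sq.ShortExact :=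
      ShortComplex.ShortExact.mk' (ShortComplex.exact_of_g_is_cokernel _ (cokernelIsCokernel ι)) hι inferInstance
    have hQ : EtCoh.IsTorsion Sq.X₃ := isTorsion_of_epi (cokernel.π ι) hI
    have hπ : (Sq.map π).ShortExact := hSq.map_of_exact π
    have hI1 : ∀ k, IsZero ((BigSite.RpushBig Scheme.etalePrecoverage f (k + 1)).obj (π.obj I)) := fun k =>
      isZero_RpushBig_pi hBC f I hI (k + 1) (hI0 (k + 1) (Nat.succ_pos k))
    cases n with
    | zero =>
      obtain ⟨a⟩ := TorsAcyc5.nonempty_rightDerived_one (EtCoh.push f) Sq hSq (hI0 1 one_pos)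
      obtain ⟨b⟩ := TorsAcyc5.nonempty_rightDerived_one
        (BigSite.pushBig Scheme.etalePrecoverage f AddCommGrpCat.{u + 1}) (Sq.map π) hπ (hI1 0)
      exact ⟨π'.mapIso a ≪≫ PreservesCokernel.iso π' _ ≪≫
        cokernel.mapIso _ _ (e.app I) (e.app Sq.X₃) (e.hom.naturality Sq.g) ≪≫ b.symm⟩
    | succ m =>
      obtain ⟨a⟩ := TorsAcyc5.nonempty_rightDerived_succ (EtCoh.push f) Sq hSq (m + 1) (hI0 _ (Nat.succ_pos _))
        (hI0 _ (Nat.succ_pos _))
      obtain ⟨b⟩ := TorsAcyc5.nonempty_rightDerived_succ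
        (BigSite.pushBig Scheme.etalePrecoverage f AddCommGrpCat.{u + 1}) (Sq.map π) hπ (m + 1) (hI1 m) (hI1 (m + 1))
      obtain ⟨c⟩ := ih Sq.X₃ hQ
      exact ⟨π'.mapIso a.symm ≪≫ c ≪≫ b⟩

end Big

end Groth.Agent.BigPBC5

end
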